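import Cfsg.Agent.Lib.StructB.HN133.A12.Main
import Cfsg.Prelude.Def_Sporadic

/-!
The action of the Harada–Norton group on the cosets of an alternating subgroup of degree twelve.
-/

set_option autoImplicit false

namespace CfsgLib.StructB.HN133.A12

open Cfsg.Spor

/-- A finite simple group acts on the cosets of a proper subgroup as a permutation group. -/
theorem coset_realisation {G A : Type*} [Group G] [Group A] [IsSimpleGroup G] (φ : A →* G) (hφ : Function.Injective φ)
    {m n : ℕ} [NeZero n] (hG : Nat.card G = m) (hn : Nat.card A * n = m) (hm : 0 < m) (h1 : 1 < n) :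
    ∃ H : Subgroup (Equiv.Perm (Fin n)), Nonempty (G ≃* H) ∧ MulAction.IsPretransitive H (Fin n) ∧
      Nonempty (MulAction.stabilizer H (0 : Fin n) ≃* A) := by
  have : Finite G := Nat.finite_of_card_ne_zero (by omega)
  set S := φ.range with hS
  have hcS : Nat.card S = Nat.card A := (Nat.card_congr (MonoidHom.ofInjective hφ).toEquiv).symm
  have hidx : S.index = n := by
    have hA : Nat.card A ≠ 0 := by intro h; rw [h, zero_mul] at hn; omega
    have h := S.card_mul_index
    rw [hcS, hG, ← hn] at h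
    exact Nat.eq_of_mul_eq_mul_left (Nat.pos_of_ne_zero hA) h
  have hcard : Nat.card (G ⧸ S) = n := hidx
  have : Finite (G ⧸ S) := inferInstance
  let e0 : G ⧸ S ≃ Fin n := (Finite.equivFin _).trans (finCongr hcard)
  let e : G ⧸ S ≃ Fin n := e0.trans (Equiv.swap (e0 ((1 : G) : G ⧸ S)) 0)
  have he : e ((1 : G) : G ⧸ S) = 0 := by simp [e]
  let ρ : G →* Equiv.Perm (Fin n) := e.permCongrHom.toMonoidHom.comp (MulAction.toPermHom G (G ⧸ S))
  have hρ : ∀ g i, ρ g i = e (g • e.symm i) := fun g i => rfl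
  have hinj : Function.Injective ρ := by
    refine e.permCongrHom.injective.comp ?_
    rw [← MonoidHom.ker_eq_bot_iff, ← Subgroup.normalCore_eq_ker]
    refine (S.normalCore_normal.eq_bot_or_eq_top).resolve_right fun h => ?_
    have : S = ⊤ := top_le_iff.1 (h ▸ S.normalCore_le)
    rw [this, Subgroup.index_top] at hidx
    omega
  let E : G ≃* ρ.range := MonoidHom.ofInjective hinj
  refine ⟨ρ.range, ⟨E⟩, ⟨fun a b => ?_⟩, ?_⟩
  · obtain ⟨g, hg⟩ := MulAction.exists_smul_eq G (e.symm a) (e.symm b)
    refine ⟨⟨ρ g, g, rfl⟩, ?_⟩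
    show ρ g a = b
    rw [hρ, hg, e.apply_symm_apply]
  · have hst : (MulAction.stabilizer G ((1 : G) : G ⧸ S)).map E.toMonoidHom =
        MulAction.stabilizer ρ.range (0 : Fin n) := by
      ext h
      obtain ⟨g, rfl⟩ := E.surjective h
      rw [Subgroup.mem_map_equiv, MulEquiv.symm_apply_apply, MulAction.mem_stabilizer_iff,
        MulAction.mem_stabilizer_iff]
      show g • ((1 : G) : G ⧸ S) = _ ↔ ρ g 0 = 0
      rw [hρ, ← he, e.symm_apply_apply, e.injective.eq_iff]
    exact ⟨((MulEquiv.subgroupCongr hst).symm.trans (E.subgroupMap _).symm).trans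
      ((MulEquiv.subgroupCongr (MulAction.stabilizer_quotient S)).trans (MonoidHom.ofInjective hφ).symm)⟩

/-- The permutation representation of degree 1140000. -/
theorem realisation (hHN : Cfsg.IsHN HN) :
    ∃ H : Subgroup (Equiv.Perm (Fin 1140000)), Cfsg.IsHN H ∧ MulAction.IsPretransitive H (Fin 1140000) ∧
      Nonempty (MulAction.stabilizer H (0 : Fin 1140000) ≃* alternatingGroup (Fin 12)) := by
  obtain ⟨hs, hc⟩ := hHN
  have hfaith : ∀ f : HN →* (Matrix (Fin 133) (Fin 133) (ZMod 41))ˣ, (∃ g, f g ≠ 1) → Function.Injective f := by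
    rintro f ⟨g, hg⟩
    rw [← MonoidHom.ker_eq_bot_iff]
    exact (f.normal_ker.eq_bot_or_eq_top).resolve_right fun h =>
      hg (MonoidHom.mem_ker.1 (h ▸ Subgroup.mem_top g))
  obtain ⟨φ, hφ⟩ := exists_alt hfaith
  have hA : Nat.card (alternatingGroup (Fin 12)) = 239500800 := by
    have h : Nat.card (alternatingGroup (Fin 12)) * 2 = (12).factorial := by
      rw [mul_comm, two_mul_nat_card_alternatingGroup, Nat.card_perm, Nat.card_fin]
    exact Nat.eq_of_mul_eq_mul_right (by norm_num) (h.trans (by decide +kernel : (12).factorial = 239500800 * 2))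
  obtain ⟨H, ⟨e⟩, htr, hst⟩ := coset_realisation φ hφ (n := 1140000) hc (by rw [hA]) (by norm_num) (by norm_num)
  exact ⟨H, ⟨e.symm.isSimpleGroup, (Nat.card_congr e.toEquiv).symm.trans hc⟩, htr, hst⟩

end CfsgLib.StructB.HN133.A12
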