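import Cfsg.Agent.Lib.Pres.ShortTools

/-!
# The alternating group of degree twelve from Carmichael's relations
-/

set_option autoImplicit false
set_option maxRecDepth 100000

namespace CfsgLib.StructB.HN133.A12

/-- The relators on ten generators. -/
def carRel : Set (FreeGroup (Fin 10)) :=
  {w | (∃ i, w = FreeGroup.of i ^ 3) ∨
    ∃ i j, i ≠ j ∧ w = (FreeGroup.of i * FreeGroup.of j) * (FreeGroup.of i * FreeGroup.of j)}

/-- The point after the common pair. -/
def pt (i : Fin 10) : Fin 12 := ⟨i.val + 2, by omega⟩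

/-- The standard three-cycles `(0 1 k)`. -/
def cyc (i : Fin 10) : Equiv.Perm (Fin 12) := Equiv.swap 0 (pt i) * Equiv.swap 0 1

theorem cyc_three : ∀ i, cyc i ^ 3 = 1 := by decide +kernel

theorem cyc_pair : ∀ i j, i ≠ j → (cyc i * cyc j) * (cyc i * cyc j) = 1 := by decide +kernel

theorem cyc_even : ∀ i, Equiv.Perm.sign (cyc i) = 1 := by
  intro i
  have hne : (0 : Fin 12) ≠ pt i := by intro h; simpa [pt] using congrArg Fin.val h
  rw [cyc, map_mul, Equiv.Perm.sign_swap hne, Equiv.Perm.sign_swap (by decide)]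
  decide

theorem swap_zero : ∀ i, Equiv.swap (0 : Fin 12) (pt i) * Equiv.swap 0 1 = cyc i :=
  fun _ => rfl

theorem swap_one : ∀ i, Equiv.swap (1 : Fin 12) (pt i) * Equiv.swap 0 1 = (cyc i)⁻¹ := by
  decide +kernel

theorem swap_mid : ∀ i j, i ≠ j →
    Equiv.swap (pt i) (pt j) * Equiv.swap 0 1 = cyc i * (cyc j)⁻¹ * cyc i := by
  decide +kernel

theorem conj_T : ∀ i, Equiv.swap 0 1 * cyc i * Equiv.swap 0 1 = (cyc i)⁻¹ := by decide +kernel

theorem cases12 : ∀ a : Fin 12, a = 0 ∨ a = 1 ∨ ∃ i, a = pt i := by decide +kernel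

theorem closure_cyc : Subgroup.closure (Set.range cyc) = alternatingGroup (Fin 12) := by
  refine le_antisymm ((Subgroup.closure_le _).2 ?_) ?_
  · rintro _ ⟨i, rfl⟩
    exact Equiv.Perm.mem_alternatingGroup.2 (cyc_even i)
  · intro σ hσ
    let H := Subgroup.closure (Set.range cyc)
    let T : Equiv.Perm (Fin 12) := Equiv.swap 0 1
    have hg : ∀ i, cyc i ∈ H := fun i => Subgroup.subset_closure ⟨i, rfl⟩
    have hTT : T * T = 1 := Equiv.swap_mul_self _ _
    have hsw : ∀ a b : Fin 12, a ≠ b → Equiv.swap a b * T ∈ H := by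
      intro a b hab
      rcases cases12 a with rfl | rfl | ⟨i, rfl⟩ <;> rcases cases12 b with rfl | rfl | ⟨j, rfl⟩
      · exact absurd rfl hab
      · rw [hTT]; exact one_mem _
      · exact swap_zero j ▸ hg j
      · rw [Equiv.swap_comm, hTT]; exact one_mem _
      · exact absurd rfl hab
      · rw [swap_one j]; exact inv_mem (hg j)
      · rw [Equiv.swap_comm]; exact swap_zero i ▸ hg i
      · rw [Equiv.swap_comm, swap_one i]; exact inv_mem (hg i)
      · rw [swap_mid i j fun h => hab (h ▸ rfl)]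
        exact mul_mem (mul_mem (hg i) (inv_mem (hg j))) (hg i)
    have hconj : ∀ h ∈ H, T * h * T ∈ H := by
      intro h hh
      induction hh using Subgroup.closure_induction with
      | mem g hg' => obtain ⟨i, rfl⟩ := hg'; rw [conj_T i]; exact inv_mem (hg i)
      | one => rw [mul_one, hTT]; exact one_mem _
      | mul x y _ _ hx hy =>
        have : T * (x * y) * T = (T * x * T) * (T * y * T) := by
          simp only [mul_assoc]; rw [← mul_assoc T T, hTT, one_mul]
        rw [this]; exact mul_mem hx hy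
      | inv x _ hx =>
        have hTi : T⁻¹ = T := inv_eq_of_mul_eq_one_right hTT
        have : T * x⁻¹ * T = (T * x * T)⁻¹ := by rw [mul_inv_rev, mul_inv_rev, hTi, mul_assoc]
        rw [this]; exact inv_mem hx
    have key : ∀ τ : Equiv.Perm (Fin 12), (Equiv.Perm.sign τ = 1 ∧ τ ∈ H) ∨
        (Equiv.Perm.sign τ = -1 ∧ τ * T ∈ H) := by
      intro τ
      induction τ using Equiv.Perm.swap_induction_on with
      | one => exact Or.inl ⟨map_one _, one_mem _⟩
      | swap_mul f a b hab ih =>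
        rcases ih with ⟨hs, hf⟩ | ⟨hs, hf⟩
        · refine Or.inr ⟨by rw [map_mul, hs, Equiv.Perm.sign_swap hab]; rfl, ?_⟩
          have : Equiv.swap a b * f * T = (Equiv.swap a b * T) * (T * f * T) := by
            simp only [mul_assoc]; rw [← mul_assoc T T, hTT, one_mul]
          rw [this]; exact mul_mem (hsw a b hab) (hconj f hf)
        · refine Or.inl ⟨by rw [map_mul, hs, Equiv.Perm.sign_swap hab]; rfl, ?_⟩
          have : Equiv.swap a b * f = (Equiv.swap a b * T) * (T * (f * T) * T) := by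
            simp only [mul_assoc, hTT, mul_one]; rw [← mul_assoc T T, hTT, one_mul]
          rw [this]; exact mul_mem (hsw a b hab) (hconj _ hf)
    rcases key σ with ⟨-, h⟩ | ⟨hs, -⟩
    · exact h
    · rw [Equiv.Perm.mem_alternatingGroup.1 hσ] at hs
      exact absurd hs (by decide)

/-- The presented group is the alternating group. -/
theorem equiv_alt : Nonempty (PresentedGroup carRel ≃* alternatingGroup (Fin 12)) := by
  have h3 : ∀ i, (PresentedGroup.of (rels := carRel) i) ^ 3 = 1 := fun i => by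
    show PresentedGroup.mk carRel (FreeGroup.of i) ^ 3 = 1
    rw [← map_pow]; exact PresentedGroup.one_of_mem (Or.inl ⟨i, rfl⟩)
  have h2 : ∀ i j, i ≠ j → (PresentedGroup.of (rels := carRel) i * PresentedGroup.of j) *
      (PresentedGroup.of i * PresentedGroup.of j) = 1 := fun i j hij => by
    show (PresentedGroup.mk carRel (FreeGroup.of i) * PresentedGroup.mk carRel (FreeGroup.of j)) *
      (PresentedGroup.mk carRel (FreeGroup.of i) * PresentedGroup.mk carRel (FreeGroup.of j)) = 1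
    rw [← map_mul, ← map_mul]; exact PresentedGroup.one_of_mem (Or.inr ⟨i, j, hij, rfl⟩)
  obtain ⟨hfin, hb⟩ := CfsgLib.Pres.Short.carmichael _ h3 h2
  rw [PresentedGroup.closure_range_of] at hfin hb
  have : Finite (PresentedGroup carRel) := Finite.of_equiv _ Subgroup.topEquiv.toEquiv
  rw [Subgroup.card_top, Fintype.card_fin] at hb
  have hrel : ∀ w ∈ carRel, FreeGroup.lift cyc w = 1 := by
    rintro w (⟨i, rfl⟩ | ⟨i, j, hij, rfl⟩)
    · simp [cyc_three]
    · simp [cyc_pair i j hij]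
  let f : PresentedGroup carRel →* Equiv.Perm (Fin 12) := PresentedGroup.toGroup hrel
  have hr : f.range = alternatingGroup (Fin 12) := by
    rw [← closure_cyc, MonoidHom.range_eq_map, ← PresentedGroup.closure_range_of, MonoidHom.map_closure,
      ← Set.range_comp]
    congr 1
  have hcard : Nat.card (alternatingGroup (Fin 12)) * 2 = (12).factorial := by
    rw [mul_comm, two_mul_nat_card_alternatingGroup, Nat.card_perm, Nat.card_fin]
  have hsurj : Function.Surjective f.rangeRestrict := f.rangeRestrict_surjective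
  have hle : Nat.card (PresentedGroup carRel) ≤ Nat.card f.range := by
    rw [hr]
    have := hb
    norm_num at this hcard ⊢
    omega
  have hinj : Function.Injective f.rangeRestrict :=
    (hsurj.bijective_of_nat_card_le hle).1
  exact ⟨(MulEquiv.ofBijective _ ⟨hinj, hsurj⟩).trans (MulEquiv.subgroupCongr hr)⟩

/-- Carmichael's relations from two generators of orders three and ten. -/
theorem carmichael_of_pair {G : Type*} [Group G] {s u : G} (h3 : s ^ 3 = 1) (h10 : u ^ 10 = 1)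
    (hd : ∀ d : ℕ, 1 ≤ d → d ≤ 5 →
      (s * ((u ^ d)⁻¹ * s ^ ((-1 : ℤ) ^ d) * u ^ d)) ^ 2 = 1) :
    ∀ i j : Fin 10, i ≠ j →
      (((u ^ (i : ℕ))⁻¹ * s ^ ((-1 : ℤ) ^ (i : ℕ)) * u ^ (i : ℕ)) *
        ((u ^ (j : ℕ))⁻¹ * s ^ ((-1 : ℤ) ^ (j : ℕ)) * u ^ (j : ℕ))) ^ 2 = 1 := by
  let X : ℕ → G := fun k => (u ^ k)⁻¹ * s ^ ((-1 : ℤ) ^ k) * u ^ k
  have flip : ∀ a b : G, (a * b) ^ 2 = 1 → (b * a) ^ 2 = 1 := fun a b h => by
    have : (b * a) ^ 2 = a⁻¹ * (a * b) ^ 2 * a := by simp only [pow_two]; group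
    rw [this, h, mul_one, inv_mul_cancel]
  have inv2 : ∀ a b : G, (a * b) ^ 2 = 1 → (a⁻¹ * b⁻¹) ^ 2 = 1 := fun a b h => by
    have : (a⁻¹ * b⁻¹) ^ 2 = ((b * a) ^ 2)⁻¹ := by simp only [pow_two]; group
    rw [this, flip a b h, inv_one]
  have hX : ∀ d, 1 ≤ d → d ≤ 9 → (s * X d) ^ 2 = 1 := by
    intro d h1 h9
    rcases Nat.lt_or_ge d 6 with h6 | h6
    · exact hd d h1 (by omega)
    · obtain ⟨e, he, rfl⟩ : ∃ e, e ≤ 4 ∧ d = 10 - e := ⟨10 - d, by omega, by omega⟩
      have he1 : 1 ≤ e := by omega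
      have hpar : ((-1 : ℤ)) ^ (10 - e) = (-1) ^ e := by
        interval_cases e <;> norm_num
      have hu : u ^ (10 - e) = (u ^ e)⁻¹ := by
        refine eq_inv_of_mul_eq_one_left ?_
        rw [← pow_add, Nat.sub_add_cancel (by omega), h10]
      have h := hd e he1 (by omega)
      show (s * ((u ^ (10 - e))⁻¹ * s ^ ((-1 : ℤ) ^ (10 - e)) * u ^ (10 - e))) ^ 2 = 1
      rw [hpar, hu, inv_inv]
      generalize u ^ e = v at h
      rcases neg_one_pow_eq_or ℤ e with hp | hp <;> rw [hp] at h ⊢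
      · rw [zpow_one] at h ⊢
        have : (s * (v * s * v⁻¹)) ^ 2 = v * (v⁻¹ * s * v * s) ^ 2 * v⁻¹ := by simp only [pow_two]; group
        rw [this, flip _ _ h, mul_one, mul_inv_cancel]
      · rw [zpow_neg_one] at h ⊢
        have h' := flip _ _ (inv2 _ _ h)
        have : (s * (v * s⁻¹ * v⁻¹)) ^ 2 = v * (v⁻¹ * s * v * s⁻¹) ^ 2 * v⁻¹ := by simp only [pow_two]; group
        rw [this]
        have e2 : v⁻¹ * s * v * s⁻¹ = ((v⁻¹ * s⁻¹ * v)⁻¹) * s⁻¹ := by group
        rw [e2, h', mul_one, mul_inv_cancel]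
  intro i j hij
  show (X i * X j) ^ 2 = 1
  have hlt : ∀ a b : ℕ, a < b → b < 10 → (X a * X b) ^ 2 = 1 := by
    intro a b hab hb
    obtain ⟨d, rfl⟩ : ∃ d, b = d + a := ⟨b - a, by omega⟩
    have h := hX d (by omega) (by omega)
    have e : (X a * X (d + a)) ^ 2 =
        (u ^ a)⁻¹ * (s ^ ((-1 : ℤ) ^ a) * ((u ^ d)⁻¹ * s ^ ((-1 : ℤ) ^ (d + a)) * u ^ d)) ^ 2 * u ^ a := by
      simp only [X, pow_add u, pow_two]; group
    rw [e]
    rcases neg_one_pow_eq_or ℤ a with hp | hp
    · rw [pow_add (-1 : ℤ), hp, mul_one, zpow_one]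
      show (u ^ a)⁻¹ * (s * X d) ^ 2 * u ^ a = 1
      rw [h, mul_one, inv_mul_cancel]
    · rw [pow_add (-1 : ℤ), hp, zpow_neg_one, mul_neg_one, zpow_neg]
      have : (u ^ d)⁻¹ * (s ^ (-1 : ℤ) ^ d)⁻¹ * u ^ d = (X d)⁻¹ := by simp only [X]; group
      rw [this, inv2 _ _ h, mul_one, inv_mul_cancel]
  rcases Nat.lt_trichotomy (i : ℕ) j with h | h | h
  · exact hlt _ _ h j.2
  · exact absurd (Fin.ext h) hij
  · exact flip _ _ (hlt _ _ h i.2)

end CfsgLib.StructB.HN133.A12
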