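import Cfsg.Agent.Lib.StructB.HN133.Data0
import Cfsg.Agent.Lib.StructB.HN133.Data1
import Cfsg.Agent.Lib.StructB.HN133.Data2
import Cfsg.Agent.Lib.StructB.HN133.Data3
import Cfsg.Agent.Lib.StructB.HN133.Data4
import Cfsg.Agent.Lib.StructB.HN133.Data5
import Cfsg.Agent.Lib.StructB.HN133.A12.Data0
import Cfsg.Agent.Lib.StructB.HN133.A12.Data1
import Cfsg.Agent.Lib.StructB.HN133.A12.Data2
import Cfsg.Agent.Lib.StructB.HN133.A12.Data3
import Cfsg.Agent.Lib.StructB.HN133.A12.Data4
import Cfsg.Agent.Lib.StructB.HN133.A12.Data5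
import Cfsg.Agent.Lib.StructB.HN133.A12.Data6
import Cfsg.Agent.Lib.StructB.HN133.A12.Data7
import Cfsg.Agent.Lib.StructB.HN133.A12.Data8

/-! Products. -/

set_option autoImplicit false
set_option maxRecDepth 100000
set_option Elab.async false

namespace CfsgLib.StructB.HN133.A12

theorem k7 : mulOK A_q10 m_X p_X A_q14 = true := by decide +kernel

theorem k8 : mulOK A_q11 m_Y p_Y A_q15 = true := by decide +kernel

theorem k9 : mulOK A_q15 A_q7 P_q7 A_q16 = true := by decide +kernel

theorem k10 : mulOK m_t A_q13 P_q13 A_r0 = true := by decide +kernel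

theorem k11 : mulOK A_r0 A_q11 P_q11 A_r1 = true := by decide +kernel

theorem k12 : mulOK A_r1 m_X p_X A_r2 = true := by decide +kernel

theorem k13 : mulOK A_r2 A_q9 P_q9 A_r3 = true := by decide +kernel

end CfsgLib.StructB.HN133.A12
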