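import Cfsg.Agent.Lib.StructB.HN133.Data0
import Cfsg.Agent.Lib.StructB.HN133.Data1
import Cfsg.Agent.Lib.StructB.HN133.Data2
import Cfsg.Agent.Lib.StructB.HN133.Data3
import Cfsg.Agent.Lib.StructB.HN133.Data4
import Cfsg.Agent.Lib.StructB.HN133.Data5
import Cfsg.Agent.Lib.StructB.HN133.A12.Data0
import Cfsg.Agent.Lib.StructB.HN133.A12.Data1
import Cfsg.Agent.Lib.StructB.HN133.A12.Data2
import Cfsg.Agent.Lib.StructB.HN133.A12.Data3
import Cfsg.Agent.Lib.StructB.HN133.A12.Data4
import Cfsg.Agent.Lib.StructB.HN133.A12.Data5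
import Cfsg.Agent.Lib.StructB.HN133.A12.Data6
import Cfsg.Agent.Lib.StructB.HN133.A12.Data7
import Cfsg.Agent.Lib.StructB.HN133.A12.Data8

/-! Products. -/

set_option autoImplicit false
set_option maxRecDepth 100000
set_option Elab.async false

namespace CfsgLib.StructB.HN133.A12

theorem k14 : mulOK A_r3 m_X p_X A_r4 = true := by decide +kernel

theorem k15 : mulOK A_r4 A_q13 P_q13 A_r5 = true := by decide +kernel

theorem k16 : mulOK A_r5 A_q10 P_q10 A_r6 = true := by decide +kernel

theorem k17 : mulOK A_r6 m_x p_x A_r7 = true := by decide +kernel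

theorem k18 : mulOK A_r7 A_q7 P_q7 A_r8 = true := by decide +kernel

theorem k19 : mulOK A_r8 A_q7 P_q7 A_r9 = true := by decide +kernel

theorem k20 : mulOK A_r9 A_q14 P_q14 A_r10 = true := by decide +kernel

end CfsgLib.StructB.HN133.A12
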