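import Cfsg.Agent.Lib.StructB.HN133.Data0
import Cfsg.Agent.Lib.StructB.HN133.Data1
import Cfsg.Agent.Lib.StructB.HN133.Data2
import Cfsg.Agent.Lib.StructB.HN133.Data3
import Cfsg.Agent.Lib.StructB.HN133.Data4
import Cfsg.Agent.Lib.StructB.HN133.Data5
import Cfsg.Agent.Lib.StructB.HN133.A12.Data0
import Cfsg.Agent.Lib.StructB.HN133.A12.Data1
import Cfsg.Agent.Lib.StructB.HN133.A12.Data2
import Cfsg.Agent.Lib.StructB.HN133.A12.Data3
import Cfsg.Agent.Lib.StructB.HN133.A12.Data4
import Cfsg.Agent.Lib.StructB.HN133.A12.Data5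
import Cfsg.Agent.Lib.StructB.HN133.A12.Data6
import Cfsg.Agent.Lib.StructB.HN133.A12.Data7
import Cfsg.Agent.Lib.StructB.HN133.A12.Data8

/-! Products. -/

set_option autoImplicit false
set_option maxRecDepth 100000
set_option Elab.async false

namespace CfsgLib.StructB.HN133.A12

theorem k21 : mulOK A_r10 A_q14 P_q14 A_r11 = true := by decide +kernel

theorem k22 : mulOK A_r11 A_q16 P_q16 A_r12 = true := by decide +kernel

theorem k23 : mulOK A_r12 m_x p_x A_r13 = true := by decide +kernel

theorem k24 : mulOK A_r13 m_y p_y A_r14 = true := by decide +kernel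

theorem k25 : mulOK A_r14 m_x p_x A_r15 = true := by decide +kernel

theorem k26 : mulOK A_r15 A_q10 P_q10 A_r16 = true := by decide +kernel

theorem k27 : mulOK A_r16 A_q12 P_q12 A_r17 = true := by decide +kernel

end CfsgLib.StructB.HN133.A12
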