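import Cfsg.Agent.Lib.StructB.HN133.Data0
import Cfsg.Agent.Lib.StructB.HN133.Data1
import Cfsg.Agent.Lib.StructB.HN133.Data2
import Cfsg.Agent.Lib.StructB.HN133.Data3
import Cfsg.Agent.Lib.StructB.HN133.Data4
import Cfsg.Agent.Lib.StructB.HN133.Data5
import Cfsg.Agent.Lib.StructB.HN133.A12.Data0
import Cfsg.Agent.Lib.StructB.HN133.A12.Data1
import Cfsg.Agent.Lib.StructB.HN133.A12.Data2
import Cfsg.Agent.Lib.StructB.HN133.A12.Data3
import Cfsg.Agent.Lib.StructB.HN133.A12.Data4
import Cfsg.Agent.Lib.StructB.HN133.A12.Data5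
import Cfsg.Agent.Lib.StructB.HN133.A12.Data6
import Cfsg.Agent.Lib.StructB.HN133.A12.Data7
import Cfsg.Agent.Lib.StructB.HN133.A12.Data8

/-! Products. -/

set_option autoImplicit false
set_option maxRecDepth 100000
set_option Elab.async false

namespace CfsgLib.StructB.HN133.A12

theorem k28 : mulOK A_r17 A_q12 P_q12 A_r18 = true := by decide +kernel

theorem k29 : mulOK A_r18 m_X p_X A_r19 = true := by decide +kernel

theorem k30 : mulOK A_r19 m_Y p_Y A_r20 = true := by decide +kernel

theorem k31 : mulOK A_r20 m_X p_X A_r21 = true := by decide +kernel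

theorem k32 : mulOK A_r21 A_q8 P_q8 A_r22 = true := by decide +kernel

theorem k33 : mulOK A_r22 A_q16 P_q16 A_u = true := by decide +kernel

theorem k34 : mulOK m_y m_y p_y A_s = true := by decide +kernel

end CfsgLib.StructB.HN133.A12
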