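import Cfsg.Agent.Lib.StructB.HN133.Data0
import Cfsg.Agent.Lib.StructB.HN133.Data1
import Cfsg.Agent.Lib.StructB.HN133.Data2
import Cfsg.Agent.Lib.StructB.HN133.Data3
import Cfsg.Agent.Lib.StructB.HN133.Data4
import Cfsg.Agent.Lib.StructB.HN133.Data5
import Cfsg.Agent.Lib.StructB.HN133.A12.Data0
import Cfsg.Agent.Lib.StructB.HN133.A12.Data1
import Cfsg.Agent.Lib.StructB.HN133.A12.Data2
import Cfsg.Agent.Lib.StructB.HN133.A12.Data3
import Cfsg.Agent.Lib.StructB.HN133.A12.Data4
import Cfsg.Agent.Lib.StructB.HN133.A12.Data5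
import Cfsg.Agent.Lib.StructB.HN133.A12.Data6
import Cfsg.Agent.Lib.StructB.HN133.A12.Data7
import Cfsg.Agent.Lib.StructB.HN133.A12.Data8

/-! Products. -/

set_option autoImplicit false
set_option maxRecDepth 100000
set_option Elab.async false

namespace CfsgLib.StructB.HN133.A12

theorem k35 : mulOK A_s A_s P_s A_si = true := by decide +kernel

theorem k36 : mulOK A_si A_s P_s m_one = true := by decide +kernel

theorem k37 : mulOK A_u A_u P_u A_u2 = true := by decide +kernel

theorem k38 : mulOK A_u2 A_u P_u A_u3 = true := by decide +kernel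

theorem k39 : mulOK A_u3 A_u P_u A_u4 = true := by decide +kernel

theorem k40 : mulOK A_u4 A_u P_u A_u5 = true := by decide +kernel

theorem k41 : mulOK A_u5 A_u5 P_u5 m_one = true := by decide +kernel

end CfsgLib.StructB.HN133.A12
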