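import Cfsg.Agent.Lib.StructB.HN133.Data0
import Cfsg.Agent.Lib.StructB.HN133.Data1
import Cfsg.Agent.Lib.StructB.HN133.Data2
import Cfsg.Agent.Lib.StructB.HN133.Data3
import Cfsg.Agent.Lib.StructB.HN133.Data4
import Cfsg.Agent.Lib.StructB.HN133.Data5
import Cfsg.Agent.Lib.StructB.HN133.A12.Data0
import Cfsg.Agent.Lib.StructB.HN133.A12.Data1
import Cfsg.Agent.Lib.StructB.HN133.A12.Data2
import Cfsg.Agent.Lib.StructB.HN133.A12.Data3
import Cfsg.Agent.Lib.StructB.HN133.A12.Data4
import Cfsg.Agent.Lib.StructB.HN133.A12.Data5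
import Cfsg.Agent.Lib.StructB.HN133.A12.Data6
import Cfsg.Agent.Lib.StructB.HN133.A12.Data7
import Cfsg.Agent.Lib.StructB.HN133.A12.Data8

/-! Products. -/

set_option autoImplicit false
set_option maxRecDepth 100000
set_option Elab.async false

namespace CfsgLib.StructB.HN133.A12

theorem k42 : mulOK A_u5 A_u4 P_u4 A_v1 = true := by decide +kernel

theorem k43 : mulOK A_u5 A_u3 P_u3 A_v2 = true := by decide +kernel

theorem k44 : mulOK A_u5 A_u2 P_u2 A_v3 = true := by decide +kernel

theorem k45 : mulOK A_u5 A_u P_u A_v4 = true := by decide +kernel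

theorem k46 : mulOK A_v1 A_si P_si A_a1 = true := by decide +kernel

theorem k47 : mulOK A_a1 A_u P_u A_x1 = true := by decide +kernel

theorem k48 : mulOK A_s A_x1 P_x1 A_p1 = true := by decide +kernel

end CfsgLib.StructB.HN133.A12
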