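import Cfsg.Agent.Lib.StructB.HN133.Data0
import Cfsg.Agent.Lib.StructB.HN133.Data1
import Cfsg.Agent.Lib.StructB.HN133.Data2
import Cfsg.Agent.Lib.StructB.HN133.Data3
import Cfsg.Agent.Lib.StructB.HN133.Data4
import Cfsg.Agent.Lib.StructB.HN133.Data5
import Cfsg.Agent.Lib.StructB.HN133.A12.Data0
import Cfsg.Agent.Lib.StructB.HN133.A12.Data1
import Cfsg.Agent.Lib.StructB.HN133.A12.Data2
import Cfsg.Agent.Lib.StructB.HN133.A12.Data3
import Cfsg.Agent.Lib.StructB.HN133.A12.Data4
import Cfsg.Agent.Lib.StructB.HN133.A12.Data5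
import Cfsg.Agent.Lib.StructB.HN133.A12.Data6
import Cfsg.Agent.Lib.StructB.HN133.A12.Data7
import Cfsg.Agent.Lib.StructB.HN133.A12.Data8

/-! Products. -/

set_option autoImplicit false
set_option maxRecDepth 100000
set_option Elab.async false

namespace CfsgLib.StructB.HN133.A12

theorem k49 : mulOK A_p1 A_p1 P_p1 m_one = true := by decide +kernel

theorem k50 : mulOK A_v2 A_s P_s A_a2 = true := by decide +kernel

theorem k51 : mulOK A_a2 A_u2 P_u2 A_x2 = true := by decide +kernel

theorem k52 : mulOK A_s A_x2 P_x2 A_p2 = true := by decide +kernel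

theorem k53 : mulOK A_p2 A_p2 P_p2 m_one = true := by decide +kernel

theorem k54 : mulOK A_v3 A_si P_si A_a3 = true := by decide +kernel

theorem k55 : mulOK A_a3 A_u3 P_u3 A_x3 = true := by decide +kernel

end CfsgLib.StructB.HN133.A12
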