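import Cfsg.Agent.Lib.StructB.HN133.Data0
import Cfsg.Agent.Lib.StructB.HN133.Data1
import Cfsg.Agent.Lib.StructB.HN133.Data2
import Cfsg.Agent.Lib.StructB.HN133.Data3
import Cfsg.Agent.Lib.StructB.HN133.Data4
import Cfsg.Agent.Lib.StructB.HN133.Data5
import Cfsg.Agent.Lib.StructB.HN133.A12.Data0
import Cfsg.Agent.Lib.StructB.HN133.A12.Data1
import Cfsg.Agent.Lib.StructB.HN133.A12.Data2
import Cfsg.Agent.Lib.StructB.HN133.A12.Data3
import Cfsg.Agent.Lib.StructB.HN133.A12.Data4
import Cfsg.Agent.Lib.StructB.HN133.A12.Data5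
import Cfsg.Agent.Lib.StructB.HN133.A12.Data6
import Cfsg.Agent.Lib.StructB.HN133.A12.Data7
import Cfsg.Agent.Lib.StructB.HN133.A12.Data8

/-! Products. -/

set_option autoImplicit false
set_option maxRecDepth 100000
set_option Elab.async false

namespace CfsgLib.StructB.HN133.A12

theorem k56 : mulOK A_s A_x3 P_x3 A_p3 = true := by decide +kernel

theorem k57 : mulOK A_p3 A_p3 P_p3 m_one = true := by decide +kernel

theorem k58 : mulOK A_v4 A_s P_s A_a4 = true := by decide +kernel

theorem k59 : mulOK A_a4 A_u4 P_u4 A_x4 = true := by decide +kernel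

theorem k60 : mulOK A_s A_x4 P_x4 A_p4 = true := by decide +kernel

theorem k61 : mulOK A_p4 A_p4 P_p4 m_one = true := by decide +kernel

theorem k62 : mulOK A_u5 A_si P_si A_a5 = true := by decide +kernel

end CfsgLib.StructB.HN133.A12
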