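import Cfsg.Agent.Lib.StructB.HN133.A12.Ops0
import Cfsg.Agent.Lib.StructB.HN133.A12.Ops1
import Cfsg.Agent.Lib.StructB.HN133.A12.Ops2
import Cfsg.Agent.Lib.StructB.HN133.A12.Ops3
import Cfsg.Agent.Lib.StructB.HN133.A12.Ops4
import Cfsg.Agent.Lib.StructB.HN133.A12.Ops5
import Cfsg.Agent.Lib.StructB.HN133.A12.Ops6
import Cfsg.Agent.Lib.StructB.HN133.A12.Ops7
import Cfsg.Agent.Lib.StructB.HN133.A12.Ops8
import Cfsg.Agent.Lib.StructB.HN133.A12.Ops9
import Cfsg.Agent.Lib.StructB.HN133.A12.Carmichael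
import Cfsg.Agent.Lib.StructB.HN133.Main

/-! A subgroup `A₁₂` of the presented Harada–Norton group, read off the representation of degree 133. -/

set_option autoImplicit false
set_option maxRecDepth 100000

namespace CfsgLib.StructB.HN133.A12

open Cfsg.Spor

/-- Being in the image. -/
def InImg (f : HN →* (Matrix (Fin 133) (Fin 133) (ZMod 41))ˣ) (A : Matrix (Fin 133) (Fin 133) (ZMod 41)) : Prop :=
  ∃ g, (f g).val = A

theorem InImg.mul {f : HN →* (Matrix (Fin 133) (Fin 133) (ZMod 41))ˣ} {A B C : Matrix (Fin 133) (Fin 133) (ZMod 41)}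
    (hA : InImg f A) (hB : InImg f B) (h : A * B = C) : InImg f C := by
  obtain ⟨g, rfl⟩ := hA
  obtain ⟨g', rfl⟩ := hB
  exact ⟨g * g', by rw [map_mul, Units.val_mul, h]⟩

theorem InImg.inv {f : HN →* (Matrix (Fin 133) (Fin 133) (ZMod 41))ˣ} {A B : Matrix (Fin 133) (Fin 133) (ZMod 41)}
    (hA : InImg f A) (h : A * B = 1) : InImg f B := by
  obtain ⟨g, rfl⟩ := hA
  exact ⟨g⁻¹, by rw [map_inv]; exact Units.inv_eq_of_mul_eq_one_right h⟩

theorem e_k0 : mat m_Y * mat m_z = mat A_q7 := mul_of_ok (A := m_Y) (M := m_z) (P := p_z) (C := A_q7) k0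

theorem e_k1 : mat m_y * mat m_z = mat A_q8 := mul_of_ok (A := m_y) (M := m_z) (P := p_z) (C := A_q8) k1

theorem e_k2 : mat m_y * mat A_q8 = mat A_q9 := mul_of_ok (A := m_y) (M := A_q8) (P := P_q8) (C := A_q9) k2

theorem e_k3 : mat A_q7 * mat m_Y = mat A_q10 := mul_of_ok (A := A_q7) (M := m_Y) (P := p_Y) (C := A_q10) k3

theorem e_k4 : mat m_z * mat A_q9 = mat A_q11 := mul_of_ok (A := m_z) (M := A_q9) (P := P_q9) (C := A_q11) k4

theorem e_k5 : mat m_Y * mat m_Y = mat A_q12 := mul_of_ok (A := m_Y) (M := m_Y) (P := p_Y) (C := A_q12) k5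

theorem e_k6 : mat m_t * mat m_x = mat A_q13 := mul_of_ok (A := m_t) (M := m_x) (P := p_x) (C := A_q13) k6

theorem e_k7 : mat A_q10 * mat m_X = mat A_q14 := mul_of_ok (A := A_q10) (M := m_X) (P := p_X) (C := A_q14) k7

theorem e_k8 : mat A_q11 * mat m_Y = mat A_q15 := mul_of_ok (A := A_q11) (M := m_Y) (P := p_Y) (C := A_q15) k8

theorem e_k9 : mat A_q15 * mat A_q7 = mat A_q16 := mul_of_ok (A := A_q15) (M := A_q7) (P := P_q7) (C := A_q16) k9

theorem e_k10 : mat m_t * mat A_q13 = mat A_r0 := mul_of_ok (A := m_t) (M := A_q13) (P := P_q13) (C := A_r0) k10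

theorem e_k11 : mat A_r0 * mat A_q11 = mat A_r1 := mul_of_ok (A := A_r0) (M := A_q11) (P := P_q11) (C := A_r1) k11

theorem e_k12 : mat A_r1 * mat m_X = mat A_r2 := mul_of_ok (A := A_r1) (M := m_X) (P := p_X) (C := A_r2) k12

theorem e_k13 : mat A_r2 * mat A_q9 = mat A_r3 := mul_of_ok (A := A_r2) (M := A_q9) (P := P_q9) (C := A_r3) k13

theorem e_k14 : mat A_r3 * mat m_X = mat A_r4 := mul_of_ok (A := A_r3) (M := m_X) (P := p_X) (C := A_r4) k14

theorem e_k15 : mat A_r4 * mat A_q13 = mat A_r5 := mul_of_ok (A := A_r4) (M := A_q13) (P := P_q13) (C := A_r5) k15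

theorem e_k16 : mat A_r5 * mat A_q10 = mat A_r6 := mul_of_ok (A := A_r5) (M := A_q10) (P := P_q10) (C := A_r6) k16

theorem e_k17 : mat A_r6 * mat m_x = mat A_r7 := mul_of_ok (A := A_r6) (M := m_x) (P := p_x) (C := A_r7) k17

theorem e_k18 : mat A_r7 * mat A_q7 = mat A_r8 := mul_of_ok (A := A_r7) (M := A_q7) (P := P_q7) (C := A_r8) k18

theorem e_k19 : mat A_r8 * mat A_q7 = mat A_r9 := mul_of_ok (A := A_r8) (M := A_q7) (P := P_q7) (C := A_r9) k19

theorem e_k20 : mat A_r9 * mat A_q14 = mat A_r10 := mul_of_ok (A := A_r9) (M := A_q14) (P := P_q14) (C := A_r10) k20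

theorem e_k21 : mat A_r10 * mat A_q14 = mat A_r11 := mul_of_ok (A := A_r10) (M := A_q14) (P := P_q14) (C := A_r11) k21

theorem e_k22 : mat A_r11 * mat A_q16 = mat A_r12 := mul_of_ok (A := A_r11) (M := A_q16) (P := P_q16) (C := A_r12) k22

theorem e_k23 : mat A_r12 * mat m_x = mat A_r13 := mul_of_ok (A := A_r12) (M := m_x) (P := p_x) (C := A_r13) k23

theorem e_k24 : mat A_r13 * mat m_y = mat A_r14 := mul_of_ok (A := A_r13) (M := m_y) (P := p_y) (C := A_r14) k24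

theorem e_k25 : mat A_r14 * mat m_x = mat A_r15 := mul_of_ok (A := A_r14) (M := m_x) (P := p_x) (C := A_r15) k25

theorem e_k26 : mat A_r15 * mat A_q10 = mat A_r16 := mul_of_ok (A := A_r15) (M := A_q10) (P := P_q10) (C := A_r16) k26

theorem e_k27 : mat A_r16 * mat A_q12 = mat A_r17 := mul_of_ok (A := A_r16) (M := A_q12) (P := P_q12) (C := A_r17) k27

theorem e_k28 : mat A_r17 * mat A_q12 = mat A_r18 := mul_of_ok (A := A_r17) (M := A_q12) (P := P_q12) (C := A_r18) k28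

theorem e_k29 : mat A_r18 * mat m_X = mat A_r19 := mul_of_ok (A := A_r18) (M := m_X) (P := p_X) (C := A_r19) k29

theorem e_k30 : mat A_r19 * mat m_Y = mat A_r20 := mul_of_ok (A := A_r19) (M := m_Y) (P := p_Y) (C := A_r20) k30

theorem e_k31 : mat A_r20 * mat m_X = mat A_r21 := mul_of_ok (A := A_r20) (M := m_X) (P := p_X) (C := A_r21) k31

theorem e_k32 : mat A_r21 * mat A_q8 = mat A_r22 := mul_of_ok (A := A_r21) (M := A_q8) (P := P_q8) (C := A_r22) k32

theorem e_k33 : mat A_r22 * mat A_q16 = mat A_u := mul_of_ok (A := A_r22) (M := A_q16) (P := P_q16) (C := A_u) k33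

theorem e_k34 : mat m_y * mat m_y = mat A_s := mul_of_ok (A := m_y) (M := m_y) (P := p_y) (C := A_s) k34

theorem e_k35 : mat A_s * mat A_s = mat A_si := mul_of_ok (A := A_s) (M := A_s) (P := P_s) (C := A_si) k35

theorem e_k36 : mat A_si * mat A_s = 1 := Eq.trans (mul_of_ok (A := A_si) (M := A_s) (P := P_s) (C := m_one) k36) one_ok

theorem e_k37 : mat A_u * mat A_u = mat A_u2 := mul_of_ok (A := A_u) (M := A_u) (P := P_u) (C := A_u2) k37

theorem e_k38 : mat A_u2 * mat A_u = mat A_u3 := mul_of_ok (A := A_u2) (M := A_u) (P := P_u) (C := A_u3) k38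

theorem e_k39 : mat A_u3 * mat A_u = mat A_u4 := mul_of_ok (A := A_u3) (M := A_u) (P := P_u) (C := A_u4) k39

theorem e_k40 : mat A_u4 * mat A_u = mat A_u5 := mul_of_ok (A := A_u4) (M := A_u) (P := P_u) (C := A_u5) k40

theorem e_k41 : mat A_u5 * mat A_u5 = 1 := Eq.trans (mul_of_ok (A := A_u5) (M := A_u5) (P := P_u5) (C := m_one) k41) one_ok

theorem e_k42 : mat A_u5 * mat A_u4 = mat A_v1 := mul_of_ok (A := A_u5) (M := A_u4) (P := P_u4) (C := A_v1) k42

theorem e_k43 : mat A_u5 * mat A_u3 = mat A_v2 := mul_of_ok (A := A_u5) (M := A_u3) (P := P_u3) (C := A_v2) k43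

theorem e_k44 : mat A_u5 * mat A_u2 = mat A_v3 := mul_of_ok (A := A_u5) (M := A_u2) (P := P_u2) (C := A_v3) k44

theorem e_k45 : mat A_u5 * mat A_u = mat A_v4 := mul_of_ok (A := A_u5) (M := A_u) (P := P_u) (C := A_v4) k45

theorem e_k46 : mat A_v1 * mat A_si = mat A_a1 := mul_of_ok (A := A_v1) (M := A_si) (P := P_si) (C := A_a1) k46

theorem e_k47 : mat A_a1 * mat A_u = mat A_x1 := mul_of_ok (A := A_a1) (M := A_u) (P := P_u) (C := A_x1) k47

theorem e_k48 : mat A_s * mat A_x1 = mat A_p1 := mul_of_ok (A := A_s) (M := A_x1) (P := P_x1) (C := A_p1) k48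

theorem e_k49 : mat A_p1 * mat A_p1 = 1 := Eq.trans (mul_of_ok (A := A_p1) (M := A_p1) (P := P_p1) (C := m_one) k49) one_ok

theorem e_k50 : mat A_v2 * mat A_s = mat A_a2 := mul_of_ok (A := A_v2) (M := A_s) (P := P_s) (C := A_a2) k50

theorem e_k51 : mat A_a2 * mat A_u2 = mat A_x2 := mul_of_ok (A := A_a2) (M := A_u2) (P := P_u2) (C := A_x2) k51

theorem e_k52 : mat A_s * mat A_x2 = mat A_p2 := mul_of_ok (A := A_s) (M := A_x2) (P := P_x2) (C := A_p2) k52

theorem e_k53 : mat A_p2 * mat A_p2 = 1 := Eq.trans (mul_of_ok (A := A_p2) (M := A_p2) (P := P_p2) (C := m_one) k53) one_ok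

theorem e_k54 : mat A_v3 * mat A_si = mat A_a3 := mul_of_ok (A := A_v3) (M := A_si) (P := P_si) (C := A_a3) k54

theorem e_k55 : mat A_a3 * mat A_u3 = mat A_x3 := mul_of_ok (A := A_a3) (M := A_u3) (P := P_u3) (C := A_x3) k55

theorem e_k56 : mat A_s * mat A_x3 = mat A_p3 := mul_of_ok (A := A_s) (M := A_x3) (P := P_x3) (C := A_p3) k56

theorem e_k57 : mat A_p3 * mat A_p3 = 1 := Eq.trans (mul_of_ok (A := A_p3) (M := A_p3) (P := P_p3) (C := m_one) k57) one_ok

theorem e_k58 : mat A_v4 * mat A_s = mat A_a4 := mul_of_ok (A := A_v4) (M := A_s) (P := P_s) (C := A_a4) k58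

theorem e_k59 : mat A_a4 * mat A_u4 = mat A_x4 := mul_of_ok (A := A_a4) (M := A_u4) (P := P_u4) (C := A_x4) k59

theorem e_k60 : mat A_s * mat A_x4 = mat A_p4 := mul_of_ok (A := A_s) (M := A_x4) (P := P_x4) (C := A_p4) k60

theorem e_k61 : mat A_p4 * mat A_p4 = 1 := Eq.trans (mul_of_ok (A := A_p4) (M := A_p4) (P := P_p4) (C := m_one) k61) one_ok

theorem e_k62 : mat A_u5 * mat A_si = mat A_a5 := mul_of_ok (A := A_u5) (M := A_si) (P := P_si) (C := A_a5) k62

theorem e_k63 : mat A_a5 * mat A_u5 = mat A_x5 := mul_of_ok (A := A_a5) (M := A_u5) (P := P_u5) (C := A_x5) k63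

theorem e_k64 : mat A_s * mat A_x5 = mat A_p5 := mul_of_ok (A := A_s) (M := A_x5) (P := P_x5) (C := A_p5) k64

theorem e_k65 : mat A_p5 * mat A_p5 = 1 := Eq.trans (mul_of_ok (A := A_p5) (M := A_p5) (P := P_p5) (C := m_one) k65) one_ok

/-- The two generators, with their defining products. -/
theorem images {f : HN →* (Matrix (Fin 133) (Fin 133) (ZMod 41))ˣ}
    (i_x : InImg f (mat m_x)) (i_y : InImg f (mat m_y)) (i_z : InImg f (mat m_z)) (i_t : InImg f (mat m_t)) :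
    InImg f (mat A_s) ∧ InImg f (mat A_u) := by
  have i_X : InImg f (mat m_X) := i_x.inv e02
  have i_Y : InImg f (mat m_Y) := i_y.inv e04
  have i_q7 : InImg f (mat A_q7) := i_Y.mul i_z e_k0
  have i_q8 : InImg f (mat A_q8) := i_y.mul i_z e_k1
  have i_q9 : InImg f (mat A_q9) := i_y.mul i_q8 e_k2
  have i_q10 : InImg f (mat A_q10) := i_q7.mul i_Y e_k3
  have i_q11 : InImg f (mat A_q11) := i_z.mul i_q9 e_k4
  have i_q12 : InImg f (mat A_q12) := i_Y.mul i_Y e_k5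
  have i_q13 : InImg f (mat A_q13) := i_t.mul i_x e_k6
  have i_q14 : InImg f (mat A_q14) := i_q10.mul i_X e_k7
  have i_q15 : InImg f (mat A_q15) := i_q11.mul i_Y e_k8
  have i_q16 : InImg f (mat A_q16) := i_q15.mul i_q7 e_k9
  have i_r0 : InImg f (mat A_r0) := i_t.mul i_q13 e_k10
  have i_r1 : InImg f (mat A_r1) := i_r0.mul i_q11 e_k11
  have i_r2 : InImg f (mat A_r2) := i_r1.mul i_X e_k12
  have i_r3 : InImg f (mat A_r3) := i_r2.mul i_q9 e_k13
  have i_r4 : InImg f (mat A_r4) := i_r3.mul i_X e_k14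
  have i_r5 : InImg f (mat A_r5) := i_r4.mul i_q13 e_k15
  have i_r6 : InImg f (mat A_r6) := i_r5.mul i_q10 e_k16
  have i_r7 : InImg f (mat A_r7) := i_r6.mul i_x e_k17
  have i_r8 : InImg f (mat A_r8) := i_r7.mul i_q7 e_k18
  have i_r9 : InImg f (mat A_r9) := i_r8.mul i_q7 e_k19
  have i_r10 : InImg f (mat A_r10) := i_r9.mul i_q14 e_k20
  have i_r11 : InImg f (mat A_r11) := i_r10.mul i_q14 e_k21
  have i_r12 : InImg f (mat A_r12) := i_r11.mul i_q16 e_k22
  have i_r13 : InImg f (mat A_r13) := i_r12.mul i_x e_k23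
  have i_r14 : InImg f (mat A_r14) := i_r13.mul i_y e_k24
  have i_r15 : InImg f (mat A_r15) := i_r14.mul i_x e_k25
  have i_r16 : InImg f (mat A_r16) := i_r15.mul i_q10 e_k26
  have i_r17 : InImg f (mat A_r17) := i_r16.mul i_q12 e_k27
  have i_r18 : InImg f (mat A_r18) := i_r17.mul i_q12 e_k28
  have i_r19 : InImg f (mat A_r19) := i_r18.mul i_X e_k29
  have i_r20 : InImg f (mat A_r20) := i_r19.mul i_Y e_k30
  have i_r21 : InImg f (mat A_r21) := i_r20.mul i_X e_k31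
  have i_r22 : InImg f (mat A_r22) := i_r21.mul i_q8 e_k32
  have i_u : InImg f (mat A_u) := i_r22.mul i_q16 e_k33
  have i_s : InImg f (mat A_s) := i_y.mul i_y e_k34
  exact ⟨i_s, i_u⟩

/-- Substituting the certified products. -/
theorem pair_rel {M : Type*} [Monoid M] {s si u u2 u3 u4 u5 v1 v2 v3 v4 a1 x1 p1 a2 x2 p2 a3 x3 p3 a4 x4 p4 a5 x5 p5 : M}
    (hk35 : s * s = si)
    (hk36 : si * s = 1)
    (hk37 : u * u = u2)
    (hk38 : u2 * u = u3)
    (hk39 : u3 * u = u4)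
    (hk40 : u4 * u = u5)
    (hk41 : u5 * u5 = 1)
    (hk42 : u5 * u4 = v1)
    (hk43 : u5 * u3 = v2)
    (hk44 : u5 * u2 = v3)
    (hk45 : u5 * u = v4)
    (hk46 : v1 * si = a1)
    (hk47 : a1 * u = x1)
    (hk48 : s * x1 = p1)
    (hk49 : p1 * p1 = 1)
    (hk50 : v2 * s = a2)
    (hk51 : a2 * u2 = x2)
    (hk52 : s * x2 = p2)
    (hk53 : p2 * p2 = 1)
    (hk54 : v3 * si = a3)
    (hk55 : a3 * u3 = x3)
    (hk56 : s * x3 = p3)
    (hk57 : p3 * p3 = 1)
    (hk58 : v4 * s = a4)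
    (hk59 : a4 * u4 = x4)
    (hk60 : s * x4 = p4)
    (hk61 : p4 * p4 = 1)
    (hk62 : u5 * si = a5)
    (hk63 : a5 * u5 = x5)
    (hk64 : s * x5 = p5)
    (hk65 : p5 * p5 = 1)
    : s * s * s = 1 ∧ u ^ 10 = 1 ∧ si = s * s ∧
      (∀ d, 1 ≤ d → d ≤ 5 → (s * (u ^ (10 - d) * (if d % 2 = 1 then si else s) * u ^ d)) *
        (s * (u ^ (10 - d) * (if d % 2 = 1 then si else s) * u ^ d)) = 1) := by
  subst hk35
  subst hk37
  subst hk38
  subst hk39
  subst hk40
  subst hk42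
  subst hk43
  subst hk44
  subst hk45
  subst hk46
  subst hk47
  subst hk48
  subst hk50
  subst hk51
  subst hk52
  subst hk54
  subst hk55
  subst hk56
  subst hk58
  subst hk59
  subst hk60
  subst hk62
  subst hk63
  subst hk64
  refine ⟨hk36, ?_, rfl, fun d h1 h5 => ?_⟩
  · simpa [pow_succ, mul_assoc] using hk41
  · interval_cases d
    · simpa [pow_succ, mul_assoc] using hk49
    · simpa [pow_succ, mul_assoc] using hk53
    · simpa [pow_succ, mul_assoc] using hk57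
    · simpa [pow_succ, mul_assoc] using hk61
    · simpa [pow_succ, mul_assoc] using hk65

theorem s_ne_one : mat A_s ≠ 1 := by
  rw [← one_ok]
  intro h
  have h2 : ((List.range 133).any fun i => (List.range 133).any fun j =>
      !Nat.beq ((unpack 256 133 (A_s.getD i 0)).getD j 0 % 41) ((unpack 256 133 (m_one.getD i 0)).getD j 0 % 41)) = true := by
    decide +kernel
  simp only [List.any_eq_true, List.mem_range] at h2
  obtain ⟨i, hi, j, hj, hne⟩ := h2
  have e := (ZMod.natCast_eq_natCast_iff' _ _ 41).1 (congrFun (congrFun h (⟨i, hi⟩ : Fin 133)) (⟨j, hj⟩ : Fin 133))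
  rw [e, Nat.beq_refl] at hne
  exact absurd hne (by decide)

/-- Carmichael generators from two elements of a faithfully represented group. -/
theorem alt_of_rels {G M : Type*} [Group G] [Monoid M] (f : G →* Mˣ) (hinj : Function.Injective f)
    {gs gu : G} (hsne : f gs ≠ 1) {S Si U : M} (hs : (f gs).val = S) (hu : (f gu).val = U)
    (r3 : S * S * S = 1) (r10 : U ^ 10 = 1) (rsi : Si = S * S)
    (rd : ∀ d, 1 ≤ d → d ≤ 5 → (S * (U ^ (10 - d) * (if d % 2 = 1 then Si else S) * U ^ d)) *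
        (S * (U ^ (10 - d) * (if d % 2 = 1 then Si else S) * U ^ d)) = 1) :
    ∃ φ : alternatingGroup (Fin 12) →* G, Function.Injective φ := by
  rw [rsi, ← hs, ← hu] at rd
  rw [← hs] at r3
  rw [← hu] at r10
  have g3 : gs ^ 3 = 1 := hinj (Units.ext (by
    rw [map_pow, map_one, Units.val_one, Units.val_pow_eq_pow_val, pow_succ, pow_two]
    exact r3))
  have g10 : gu ^ 10 = 1 := hinj (Units.ext (by
    rw [map_pow, map_one, Units.val_one, Units.val_pow_eq_pow_val]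
    exact r10))
  have si2 : gs⁻¹ = gs * gs := inv_eq_of_mul_eq_one_right (by rw [← mul_assoc, ← pow_two, ← pow_succ, g3])
  have gd : ∀ d : ℕ, 1 ≤ d → d ≤ 5 → (gs * ((gu ^ d)⁻¹ * gs ^ ((-1 : ℤ) ^ d) * gu ^ d)) ^ 2 = 1 := by
    intro d h1 h5
    have hi : (gu ^ d)⁻¹ = gu ^ (10 - d) :=
      inv_eq_of_mul_eq_one_right (by rw [← pow_add, Nat.add_sub_cancel' (by omega), g10])
    have he : gs ^ ((-1 : ℤ) ^ d) = if d % 2 = 1 then gs * gs else gs := by
      interval_cases d <;> simp [si2]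
    rw [hi, he]
    refine hinj (Units.ext ?_)
    rw [map_one, Units.val_one, map_pow, Units.val_pow_eq_pow_val, pow_two]
    have h := rd d h1 h5
    split_ifs at h ⊢ <;> simpa only [map_mul, map_pow, Units.val_mul, Units.val_pow_eq_pow_val] using h
  have hp := carmichael_of_pair g3 g10 gd
  let g : Fin 10 → G := fun i => (gu ^ (i : ℕ))⁻¹ * gs ^ ((-1 : ℤ) ^ (i : ℕ)) * gu ^ (i : ℕ)
  have h3i : ∀ i : Fin 10, g i ^ 3 = 1 := fun i => by
    show ((gu ^ (i : ℕ))⁻¹ * gs ^ ((-1 : ℤ) ^ (i : ℕ)) * gu ^ (i : ℕ)) ^ 3 = 1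
    have e : ∀ a b : G, (a⁻¹ * b * a) ^ 3 = a⁻¹ * b ^ 3 * a := fun a b => by
      simp only [pow_succ, pow_zero, one_mul]; group
    rw [e]
    rcases neg_one_pow_eq_or ℤ (i : ℕ) with hp | hp <;> rw [hp]
    · rw [zpow_one, g3, mul_one, inv_mul_cancel]
    · rw [zpow_neg_one, inv_pow, g3, inv_one, mul_one, inv_mul_cancel]
  have hrel : ∀ w ∈ carRel, FreeGroup.lift g w = 1 := by
    rintro w (⟨i, rfl⟩ | ⟨i, j, hij, rfl⟩)
    · simpa using h3i i
    · have := hp i j hij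
      rw [pow_two] at this
      simpa [g] using this
  obtain ⟨e⟩ := equiv_alt
  let ψ : PresentedGroup carRel →* G := PresentedGroup.toGroup hrel
  let φ := ψ.comp e.symm.toMonoidHom
  refine ⟨φ, ?_⟩
  have : IsSimpleGroup (alternatingGroup (Fin 12)) := alternatingGroup.isSimpleGroup (by simp)
  rw [← MonoidHom.ker_eq_bot_iff]
  refine (φ.normal_ker.eq_bot_or_eq_top).resolve_right fun h => hsne ?_
  have h0 : φ (e (PresentedGroup.of 0)) = 1 := MonoidHom.mem_ker.1 (h ▸ Subgroup.mem_top _)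
  have e0 : φ (e (PresentedGroup.of 0)) = g 0 := by
    show ψ (e.symm (e (PresentedGroup.of 0))) = g 0
    rw [e.symm_apply_apply]; exact PresentedGroup.toGroup.of hrel
  rw [e0] at h0
  have : gs = 1 := by simpa [g] using h0
  rw [this, map_one]

theorem ne_one_of_val {M : Type*} [Monoid M] {u : Mˣ} {A : M} (h : u.val = A) (hA : A ≠ 1) : u ≠ 1 :=
  fun e => hA (by rw [← h, e, Units.val_one])

/-- If the representation is faithful, there is a subgroup `A₁₂`. -/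
theorem exists_alt (hfaith : ∀ f : HN →* (Matrix (Fin 133) (Fin 133) (ZMod 41))ˣ,
    (∃ g, f g ≠ 1) → Function.Injective f) :
    ∃ φ : alternatingGroup (Fin 12) →* HN, Function.Injective φ := by
  obtain ⟨f, -, hx, hy, hz, ht⟩ := exists_rep
  obtain ⟨⟨gs, hs⟩, ⟨gu, hu⟩⟩ := images ⟨_, hx⟩ ⟨_, hy⟩ ⟨_, hz⟩ ⟨_, ht⟩
  have hsne : f gs ≠ 1 := ne_one_of_val hs s_ne_one
  have hinj : Function.Injective f := hfaith f ⟨gs, hsne⟩
  have key := pair_rel (M := Matrix (Fin 133) (Fin 133) (ZMod 41))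
    e_k35 e_k36 e_k37 e_k38 e_k39 e_k40 e_k41 e_k42 e_k43 e_k44 e_k45 e_k46 e_k47 e_k48 e_k49 e_k50 e_k51 e_k52 e_k53 e_k54 e_k55 e_k56 e_k57 e_k58 e_k59 e_k60 e_k61 e_k62 e_k63 e_k64 e_k65
  exact alt_of_rels f hinj hsne hs hu key.1 key.2.1 key.2.2.1 key.2.2.2

end CfsgLib.StructB.HN133.A12
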