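import Cfsg.Agent.Lib.StructB.HN133.Data0
import Cfsg.Agent.Lib.StructB.HN133.Data1
import Cfsg.Agent.Lib.StructB.HN133.Data2
import Cfsg.Agent.Lib.StructB.HN133.Data3
import Cfsg.Agent.Lib.StructB.HN133.Data4
import Cfsg.Agent.Lib.StructB.HN133.Data5
import Cfsg.Agent.Lib.StructB.HN133.A12.Data0
import Cfsg.Agent.Lib.StructB.HN133.A12.Data1
import Cfsg.Agent.Lib.StructB.HN133.A12.Data2
import Cfsg.Agent.Lib.StructB.HN133.A12.Data3
import Cfsg.Agent.Lib.StructB.HN133.A12.Data4
import Cfsg.Agent.Lib.StructB.HN133.A12.Data5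
import Cfsg.Agent.Lib.StructB.HN133.A12.Data6
import Cfsg.Agent.Lib.StructB.HN133.A12.Data7
import Cfsg.Agent.Lib.StructB.HN133.A12.Data8

/-! Products. -/

set_option autoImplicit false
set_option maxRecDepth 100000
set_option Elab.async false

namespace CfsgLib.StructB.HN133.A12

theorem k0 : mulOK m_Y m_z p_z A_q7 = true := by decide +kernel

theorem k1 : mulOK m_y m_z p_z A_q8 = true := by decide +kernel

theorem k2 : mulOK m_y A_q8 P_q8 A_q9 = true := by decide +kernel

theorem k3 : mulOK A_q7 m_Y p_Y A_q10 = true := by decide +kernel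

theorem k4 : mulOK m_z A_q9 P_q9 A_q11 = true := by decide +kernel

theorem k5 : mulOK m_Y m_Y p_Y A_q12 = true := by decide +kernel

theorem k6 : mulOK m_t m_x p_x A_q13 = true := by decide +kernel

end CfsgLib.StructB.HN133.A12
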